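import Cfsg.Agent.H129.FE.Hom
import Cfsg.Agent.H129.CycT
import Cfsg.Agent.S1077
import Cfsg.Agent.S1078
import Cfsg.Agent.S1054

/-!
# `F₄(q)` in `E₆(q)` and in `²E₆(q)` (helper129)

* `group_le_simple` : the group is generated by the fundamental root groups and their opposites;
* `thF K : chevF4.SteinbergGroup K ≃* chevF4.group K`;
* `toE6 K : chevF4.group K →* chevE6.group K`, injective, `x_r(t) ↦ x_{A r}(S r t) x_{B r}(t)`;
* `toTE6 f : chevF4.group F →* twistedE6 K q` for `f : F →+* K` with `(f t)^q = f t`, injective.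
-/

set_option autoImplicit false
set_option linter.unusedSectionVars false

namespace Cfsg.Agent.H129.FE

open CoxeterSystem Cfsg.Lie Cfsg.Agent.ChevalleyStructure Cfsg.Agent.ChevalleyStructure.Elts
  Cfsg.Agent.ChevalleyStructure.StTheta Cfsg.Agent.Nodes.RGDChev Cfsg.Agent.Nodes Cfsg.Agent.H129.CycT
  Cfsg.Agent.Tits.Roots Cfsg.Agent.Tits.Core Cfsg.Agent.GpExc.Field

universe u v

section Gen

variable {D : ChevalleyDatum} {l : ℕ} {M : CoxeterMatrix (Fin l)} (hp : IsType D l M) (K : Type u) [Field K]

/-- **generation by the fundamental root elements** -/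
theorem group_le_simple [Finite K] (S : Subgroup (GL D.Idx K))
    (h1 : ∀ i < D.rank, ∀ t : K, xG hp.inList (D.simple i) t ∈ S)
    (h2 : ∀ i < D.rank, ∀ t : K, xG hp.inList (D.neg (D.simple i)) t ∈ S) : D.group K ≤ S := by
  obtain ⟨p, hcp⟩ := CharP.exists K
  have hpp : p.Prime := (CharP.char_is_prime_or_zero K p).resolve_right fun h0 => by
    subst h0
    have := CharP.charP_to_charZero K
    exact not_finite K
  have : Fact p.Prime := ⟨hpp⟩
  have h3 := RGDLib.rgd_G1_eq (rgd_GL (K := K) hp M.toCoxeterSystem p) (by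
    intro i
    have h4 : (XV D l K (sr i) ⊔ XV D l K (-sr i) : Subgroup (GL D.Idx K)) ≤
        ⨆ j, (XV D l K (sr j) ⊔ XV D l K (-sr j)) := le_iSup (fun j => XV D l K (sr j) ⊔ XV D l K (-sr j)) i
    refine h4 ?_
    rw [nn, nG_def]
    have h5 : ∀ t : K, xG hp.inList (D.simple i) t ∈ XV D l K (sr i) ⊔ XV D l K (-sr i) := fun t => by
      refine (le_sup_left : XV D l K (sr i) ≤ _) ?_
      rw [XV_sr hp]
      exact xG_mem_rootSubgroup hp.inList _ t
    have h6 : ∀ t : K, xG hp.inList (D.neg (D.simple i)) t ∈ XV D l K (sr i) ⊔ XV D l K (-sr i) := fun t => by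
      refine (le_sup_right : XV D l K (-sr i) ≤ _) ?_
      rw [XV_neg_sr hp]
      exact xG_mem_rootSubgroup hp.inList _ t
    exact mul_mem (h5 _) (mul_mem (h6 _) (h5 _)))
  have h7 : D.group K ≤ RGDLib.G1 M.toCoxeterSystem hp.isCartan (XV D l K) := by
    rw [group_le_iff hp.inList]
    intro r hr t
    refine RGDLib.X_le_G1 (isRoot_vec hp M.toCoxeterSystem hr) ?_
    rw [XV_vec hp K hr]
    exact xG_mem_rootSubgroup hp.inList r t
  rw [h3] at h7
  refine h7.trans (iSup_le fun i => sup_le ?_ ?_)
  · rw [XV_sr hp]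
    intro g hg
    obtain ⟨t, rfl⟩ := (mem_rootSubgroup_iff hp.inList _ g).1 hg
    exact h1 i (lt_rank hp i) t
  · rw [XV_neg_sr hp]
    intro g hg
    obtain ⟨t, rfl⟩ := (mem_rootSubgroup_iff hp.inList _ g).1 hg
    exact h2 i (lt_rank hp i) t

/-- the root element in the group -/
def xg (hD : InList D) (r : ℕ) (t : K) : ↥(D.group K) := ⟨xG hD r t, xG_mem_group hD r t⟩

theorem coe_xg (hD : InList D) (r : ℕ) (t : K) : ((xg K hD r t : ↥(D.group K)) : GL D.Idx K) = xG hD r t := rfl

/-- the image of a homomorphism from the group is generated by the images of the fundamental root elements -/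
theorem mem_of_simple [Finite K] {G : Type*} [Group G] (f : ↥(D.group K) →* G) (S : Subgroup G)
    (h1 : ∀ i < D.rank, ∀ t : K, f (xg K hp.inList (D.simple i) t) ∈ S)
    (h2 : ∀ i < D.rank, ∀ t : K, f (xg K hp.inList (D.neg (D.simple i)) t) ∈ S) (x : ↥(D.group K)) : f x ∈ S := by
  have h3 := group_le_simple hp K ((S.comap f).map (D.group K).subtype)
    (fun i hi t => ⟨xg K hp.inList (D.simple i) t, h1 i hi t, rfl⟩)
    (fun i hi t => ⟨xg K hp.inList (D.neg (D.simple i)) t, h2 i hi t, rfl⟩)
  obtain ⟨y, hy, hyx⟩ := h3 x.2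
  rw [Subtype.ext hyx] at hy
  exact hy

end Gen

theorem theta_stGen' {D : ChevalleyDatum} (hD : InList D) (K : Type u) [Field K] (r : ℕ) (t : K) :
    theta hD K (D.stGen K r t) = xg K hD r t := Subtype.ext (thetaGL_stGen hD r t)

section Hom

variable (K : Type u) [Field K]

theorem theta_injective_F4 : Function.Injective (theta typeF4.inList K) := by
  rw [injective_iff_map_eq_one]
  obtain ⟨θ, hθs, hθk, hθ⟩ := Cfsg.Agent.S1077.result (K := K) chevF4 typeF4.inList
  have h1 := Cfsg.Agent.S1078.result (K := K) chevF4 (by simp)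
  have h2 : θ = theta typeF4.inList K := by
    apply PresentedGroup.ext
    rintro ⟨r, t⟩
    rw [← StBasic.stGen_of_lt chevF4 r.2 t, theta_stGen']
    apply Subtype.ext
    apply Units.ext
    rw [hθ r t r.2, coe_xg, coe_xG]
  intro g hg
  rw [← h2, ← MonoidHom.mem_ker, hθk, h1] at hg
  exact hg

/-- the presented group of type `F₄` is the group -/
noncomputable def thF : chevF4.SteinbergGroup K ≃* ↥(chevF4.group K) :=
  MulEquiv.ofBijective (theta typeF4.inList K) ⟨theta_injective_F4 K, theta_surjective typeF4.inList⟩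

theorem thF_symm (r : ℕ) (t : K) : (thF K).symm (xg K typeF4.inList r t) = chevF4.stGen K r t := by
  rw [MulEquiv.symm_apply_eq]
  exact (theta_stGen' typeF4.inList K r t).symm

/-- the homomorphism to the presented group of type `E₆` -/
noncomputable def toSt : ↥(chevF4.group K) →* chevE6.SteinbergGroup K :=
  (psi K).comp (thF K).symm.toMonoidHom

theorem toSt_xg (r : ℕ) (t : K) : toSt K (xg K typeF4.inList r t) =
    chevE6.stGen K (A r) ((S r : K) * t) * chevE6.stGen K (B r) t := by
  show psi K ((thF K).symm _) = _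
  rw [thF_symm, psi_stGen]

/-- **`F₄(K) → E₆(K)`** -/
noncomputable def toE6 : ↥(chevF4.group K) →* ↥(chevE6.group K) := (theta typeE6.inList K).comp (toSt K)

theorem toE6_xg (r : ℕ) (t : K) : toE6 K (xg K typeF4.inList r t) =
    xg K typeE6.inList (A r) ((S r : K) * t) * xg K typeE6.inList (B r) t := by
  show theta typeE6.inList K (toSt K _) = _
  rw [toSt_xg, map_mul, theta_stGen', theta_stGen']

/-- a homomorphism from `F₄(K)` that is not trivial is injective -/
theorem injective_of_ne {G : Type*} [Group G] (f : ↥(chevF4.group K) →* G) {x : ↥(chevF4.group K)} (hx : f x ≠ 1) :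
    Function.Injective f := by
  have hs := (Cfsg.Agent.S1054.result (F := K) chevF4 (by simp)).1
  rw [← MonoidHom.ker_eq_bot_iff]
  rcases hs.eq_bot_or_eq_top_of_normal f.ker inferInstance with h | h
  · exact h
  · exact absurd (show x ∈ f.ker by rw [h]; exact Subgroup.mem_top _) hx

theorem toE6_injective : Function.Injective (toE6 K) := by
  refine injective_of_ne K (toE6 K) (x := xg K typeF4.inList 47 1) fun h => ?_
  rw [toE6_xg] at h
  have h1 : A 47 = 71 := by decide +kernel
  have h2 : B 47 = 1000 := by decide +kernel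
  have h3 : S 47 = 1 := by decide +kernel
  rw [h1, h2, h3] at h
  have h4 := congrArg Subtype.val h
  change xG typeE6.inList 71 _ * xG typeE6.inList 1000 _ = 1 at h4
  rw [xG_of_not_lt typeE6.inList (r := 1000) (by decide), mul_one, xG_eq_one_iff typeE6.inList (by decide)] at h4
  simp at h4

end Hom

/-! ### The twisted group -/

section Tw

variable {K : Type u} [Field K] {q : ℕ}

theorem mem_single {r : ℕ} (hr : r ∈ [e6p2, e6m2, e6p4, e6m4]) {t : K} (ht : t ^ q = t) :
    xG typeE6.inList r t ∈ twistedE6 K q := by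
  refine Subgroup.subset_closure ⟨[(r, t)], Or.inl ⟨t, ht, r, hr, rfl⟩, ?_⟩
  rw [coe_xG, ChevalleyDatum.wordMat, List.map_cons, List.map_nil, List.prod_cons, List.prod_nil, mul_one]

theorem xG_commute {a b : ℕ} (h : orthB a b = true) (t u : K) :
    Commute (xG typeE6.inList a t) (xG typeE6.inList b u) := by
  have h1 := (commute_of_orthB h t u).map (thetaGL typeE6.inList K)
  rwa [thetaGL_stGen, thetaGL_stGen] at h1

theorem mem_pair {a b : ℕ} (hr : (b, a) ∈ [(e6p1, e6p6), (e6m1, e6m6), (e6p3, e6p5), (e6m3, e6m5)])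
    (hc : orthB a b = true) {t : K} (ht : t ^ q = t) :
    xG typeE6.inList a t * xG typeE6.inList b t ∈ twistedE6 K q := by
  refine Subgroup.subset_closure ⟨[(b, t), (a, t ^ q)], Or.inr ⟨t, (b, a), hr, rfl⟩, ?_⟩
  rw [(xG_commute hc t t).eq, ht, Units.val_mul, coe_xG, coe_xG, ChevalleyDatum.wordMat, List.map_cons, List.map_cons,
    List.map_nil, List.prod_cons, List.prod_cons, List.prod_nil, mul_one]

theorem simple_mem : ∀ i < 4, ∀ t : K, t ^ q = t →
    xG typeE6.inList (A (chevF4.simple i)) ((S (chevF4.simple i) : K) * t) *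
      xG typeE6.inList (B (chevF4.simple i)) t ∈ twistedE6 K q := by
  intro i hi t ht
  have hS : ∀ i < 4, S (chevF4.simple i) = 1 := by decide +kernel
  rw [hS i hi, Int.cast_one, one_mul]
  interval_cases i
  · have h1 : A (chevF4.simple 0) = 36 := by decide +kernel
    have h2 : B (chevF4.simple 0) = 56 := by decide +kernel
    rw [h1, h2]
    exact mem_pair (by decide) (by decide +kernel) ht
  · have h1 : A (chevF4.simple 1) = 37 := by decide +kernel
    have h2 : B (chevF4.simple 1) = 42 := by decide +kernel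
    rw [h1, h2]
    exact mem_pair (by decide) (by decide +kernel) ht
  · have h1 : A (chevF4.simple 2) = 39 := by decide +kernel
    have h2 : B (chevF4.simple 2) = 1000 := by decide +kernel
    rw [h1, h2, xG_of_not_lt typeE6.inList (r := 1000) (by decide), mul_one]
    exact mem_single (by decide) ht
  · have h1 : A (chevF4.simple 3) = 46 := by decide +kernel
    have h2 : B (chevF4.simple 3) = 1000 := by decide +kernel
    rw [h1, h2, xG_of_not_lt typeE6.inList (r := 1000) (by decide), mul_one]
    exact mem_single (by decide) ht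

theorem neg_mem : ∀ i < 4, ∀ t : K, t ^ q = t →
    xG typeE6.inList (A (chevF4.neg (chevF4.simple i))) ((S (chevF4.neg (chevF4.simple i)) : K) * t) *
      xG typeE6.inList (B (chevF4.neg (chevF4.simple i))) t ∈ twistedE6 K q := by
  intro i hi t ht
  have hS : ∀ i < 4, S (chevF4.neg (chevF4.simple i)) = 1 := by decide +kernel
  rw [hS i hi, Int.cast_one, one_mul]
  interval_cases i
  · have h1 : A (chevF4.neg (chevF4.simple 0)) = 35 := by decide +kernel
    have h2 : B (chevF4.neg (chevF4.simple 0)) = 15 := by decide +kernel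
    rw [h1, h2]
    exact mem_pair (by decide) (by decide +kernel) ht
  · have h1 : A (chevF4.neg (chevF4.simple 1)) = 34 := by decide +kernel
    have h2 : B (chevF4.neg (chevF4.simple 1)) = 29 := by decide +kernel
    rw [h1, h2]
    exact mem_pair (by decide) (by decide +kernel) ht
  · have h1 : A (chevF4.neg (chevF4.simple 2)) = 32 := by decide +kernel
    have h2 : B (chevF4.neg (chevF4.simple 2)) = 1000 := by decide +kernel
    rw [h1, h2, xG_of_not_lt typeE6.inList (r := 1000) (by decide), mul_one]
    exact mem_single (by decide) ht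
  · have h1 : A (chevF4.neg (chevF4.simple 3)) = 25 := by decide +kernel
    have h2 : B (chevF4.neg (chevF4.simple 3)) = 1000 := by decide +kernel
    rw [h1, h2, xG_of_not_lt typeE6.inList (r := 1000) (by decide), mul_one]
    exact mem_single (by decide) ht

variable {F : Type v} [Field F] [Finite F] (f : F →+* K) (hf : ∀ t, f t ^ q = f t)

theorem emb_xg {D : ChevalleyDatum} (hD : InList D) (r : ℕ) (t : F) : emb hD f (xg F hD r t) = xg K hD r (f t) :=
  Subtype.ext (glMap_xG hD f r t)

include hf in
theorem toE6_mem (x : ↥(chevF4.group F)) :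
    ((toE6 K (emb typeF4.inList f x) : ↥(chevE6.group K)) : GL chevE6.Idx K) ∈ twistedE6 K q := by
  refine mem_of_simple typeF4 F (((chevE6.group K).subtype.comp (toE6 K)).comp (emb typeF4.inList f))
    (twistedE6 K q) (fun i hi t => ?_) (fun i hi t => ?_) x
  · rw [MonoidHom.comp_apply, MonoidHom.comp_apply, emb_xg, toE6_xg]
    exact simple_mem i hi (f t) (hf t)
  · rw [MonoidHom.comp_apply, MonoidHom.comp_apply, emb_xg, toE6_xg]
    exact neg_mem i hi (f t) (hf t)

/-- **`F₄(q) → ²E₆(q)`** -/
noncomputable def toTE6 : ↥(chevF4.group F) →* ↥(twistedE6 K q) :=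
  (((chevE6.group K).subtype.comp (toE6 K)).comp (emb typeF4.inList f)).codRestrict (twistedE6 K q)
    fun x => toE6_mem f hf x

theorem coe_toTE6 (x : ↥(chevF4.group F)) : ((toTE6 f hf x : ↥(twistedE6 K q)) : GL chevE6.Idx K) =
    ((toE6 K (emb typeF4.inList f x) : ↥(chevE6.group K)) : GL chevE6.Idx K) := rfl

theorem toTE6_injective : Function.Injective (toTE6 f hf) := by
  intro x y h
  have h1 := congrArg (fun z : ↥(twistedE6 K q) => (z : GL chevE6.Idx K)) h
  rw [coe_toTE6, coe_toTE6] at h1
  exact emb_injective typeF4.inList f (toE6_injective K (Subtype.ext h1))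

end Tw

end Cfsg.Agent.H129.FE
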