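import Cfsg.Agent.H129.FE.Word

/-!
# The commutator formula in the simply laced types: a fast check (helper129)

`laced_of` : if the entries of the chain table have length at most one, then the commutator formula has at most one term.
-/

set_option autoImplicit false

namespace Cfsg.Agent.H129.FE

open Cfsg.Lie Cfsg.Lie.ChevalleyDatum

theorem laced_of {D : ChevalleyDatum} {n : ℕ}
    (h : ∀ r < n, ∀ e ∈ (D.chain.getD r #[]).toList, e.2.toList.length ≤ 1) :
    ∀ r < n, ∀ s < n, D.commTerms r s = (ct D r s).map fun q => (q.1, q.2, 1, 1) := by
  have h1 : ∀ r < n, ∀ s, (D.chainEntry r s).length ≤ 1 := by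
    intro r hr s
    unfold chainEntry
    split
    · simp
    · rename_i e he
      exact h r hr e (List.mem_of_find?_eq_some he)
  intro r hr s hs
  have e1 := h1 r hr s
  have e2 := h1 s hs r
  unfold commTerms ct chainRoot chainM
  generalize D.chainEntry r s = L1 at e1 ⊢
  generalize D.chainEntry s r = L2 at e2 ⊢
  match L1, e1 with
  | [], _ =>
    match L2, e2 with
    | [], _ => rfl
    | [b], _ => rfl
  | [a], _ =>
    match L2, e2 with
    | [], _ => rfl
    | [b], _ => rfl

end Cfsg.Agent.H129.FE
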