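import Cfsg.Agent.H129.FE.Tab

/-!
# The homomorphism of presented groups `F₄ → E₆` (helper129)

`psi K : chevF4.SteinbergGroup K →* chevE6.SteinbergGroup K`, `x_r(t) ↦ x_{A r}(S r t) x_{B r}(t)`.
-/

set_option autoImplicit false

namespace Cfsg.Agent.H129.FE

open Cfsg.Lie Cfsg.Agent.ChevalleyStructure.StBasic

/-- the roots commute (or the second one is out of range) -/
def orthB (a b : ℕ) : Bool :=
  decide (72 ≤ b) || (decide (a < 72) && decide (b ≠ a) && decide (b ≠ chevE6.neg a) && (ct chevE6 a b == []))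

/-- all the facts on the tables needed -/
def tabOK (r : ℕ) : Bool :=
  decide (A r < 72) && decide (A (chevF4.neg r) = chevE6.neg (A r)) && decide (S (chevF4.neg r) = S r) &&
    (decide (S r = 1) || decide (S r = -1)) &&
    (if B r < 72 then decide (B (chevF4.neg r) = chevE6.neg (B r)) else decide (72 ≤ B (chevF4.neg r))) &&
    orthB (A r) (B r) && orthB (A (chevF4.neg r)) (B r) && orthB (A r) (B (chevF4.neg r)) &&
    orthB (A (chevF4.neg r)) (B (chevF4.neg r))

theorem tab_all : ∀ r < 48, tabOK r = true := by decide +kernel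

variable {K : Type*} [Field K]

theorem commute_of_orthB {a b : ℕ} (h : orthB a b = true) (t u : K) :
    Commute (chevE6.stGen K a t) (chevE6.stGen K b u) := by
  rw [orthB, Bool.or_eq_true, decide_eq_true_eq, Bool.and_eq_true, Bool.and_eq_true, Bool.and_eq_true,
    decide_eq_true_eq, decide_eq_true_eq, decide_eq_true_eq, beq_iff_eq] at h
  rcases h with h | ⟨⟨⟨h1, h2⟩, h3⟩, h4⟩
  · rw [stGen_of_not_lt chevE6 (r := b) (by exact Nat.not_lt.2 h)]
    exact Commute.one_right _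
  · by_cases hb : b < 72
    · have h5 := stGen_mul_stGen chevE6 (K := K) (r := a) (s := b) h1 hb h2 h3 t u
      rw [ChevalleyDatum.commWord, laced_E6 a h1 b hb h2 h3, h4, List.map_nil, List.map_nil, wd_nil, mul_one] at h5
      exact h5.symm
    · rw [stGen_of_not_lt chevE6 (r := b) hb]
      exact Commute.one_right _

/-- the facts on the tables -/
structure Tabs (r : ℕ) : Prop where
  lt : A r < 72
  negA : A (chevF4.neg r) = chevE6.neg (A r)
  negS : S (chevF4.neg r) = S r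
  sgn : S r = 1 ∨ S r = -1
  negB : B r < 72 → B (chevF4.neg r) = chevE6.neg (B r)
  negB' : ¬ B r < 72 → ¬ B (chevF4.neg r) < 72
  o1 : orthB (A r) (B r) = true
  o2 : orthB (A (chevF4.neg r)) (B r) = true
  o3 : orthB (A r) (B (chevF4.neg r)) = true
  o4 : orthB (A (chevF4.neg r)) (B (chevF4.neg r)) = true

theorem tabs {r : ℕ} (hr : r < 48) : Tabs r := by
  have h := tab_all r hr
  simp only [tabOK, Bool.and_eq_true, Bool.or_eq_true, decide_eq_true_eq] at h
  obtain ⟨⟨⟨⟨⟨⟨⟨⟨h1, h2⟩, h3⟩, h4⟩, h5⟩, h6⟩, h7⟩, h8⟩, h9⟩ := h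
  refine ⟨h1, h2, h3, h4, fun hb => ?_, fun hb => ?_, h6, h7, h8, h9⟩
  · rw [if_pos hb, decide_eq_true_eq] at h5
    exact h5
  · rw [if_neg hb, decide_eq_true_eq] at h5
    exact Nat.not_lt.2 h5

/-- the images of the generators -/
def gen (r : ℕ) (t : K) : chevE6.SteinbergGroup K :=
  chevE6.stGen K (A r) ((S r : K) * t) * chevE6.stGen K (B r) t

theorem gen_of_not_lt (r : ℕ) (t : K) (h : ¬ r < chevF4.nroots) : gen r t = 1 := by
  have h1 : A r = 1000 := by
    rw [A, Array.getD_eq_getD_getElem?, Array.getElem?_eq_none (Nat.not_lt.1 h)]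
    rfl
  have h2 : B r = 1000 := by
    rw [B, Array.getD_eq_getD_getElem?, Array.getElem?_eq_none (Nat.not_lt.1 h)]
    rfl
  rw [gen, h1, h2, stGen_of_not_lt chevE6 (by decide), stGen_of_not_lt chevE6 (by decide), one_mul]

theorem gen_mul (r : ℕ) (t₁ t₂ : K) (hr : r < 48) : gen r t₁ * gen r t₂ = gen r (t₁ + t₂) := by
  have h := (tabs hr).o1
  rw [gen, gen, gen, mul_add, ← stGen_mul, ← stGen_mul]
  exact ((commute_of_orthB h _ _).symm.mul_mul_mul_comm _ _)

theorem ev_lw (t u : K) (r : ℕ) (c : ℤ) (i j : ℕ) :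
    ev chevE6 t u (lw r c i j) = gen r ((c : K) * t ^ i * u ^ j) := by
  rw [lw, ev_cons, gen]
  congr 1
  · rw [evL]
    congr 1
    push_cast
    ring
  · split_ifs with h
    · rw [ev_cons, ev_nil, mul_one, evL]
    · rw [ev_nil, stGen_of_not_lt chevE6 (r := B r) h]

theorem ev_flatMap {α : Type*} (t u : K) (g : α → List Letter) (l : List α) :
    ev chevE6 t u (l.flatMap g) = (l.map fun a => ev chevE6 t u (g a)).prod := by
  induction l with
  | nil => rfl
  | cons a l ih => rw [List.flatMap_cons, ev_append, ih, List.map_cons, List.prod_cons]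

theorem gen_comm (r s : ℕ) (t u : K) (hr : r < 48) (hs : s < 48) (hne : s ≠ r) (hneg : s ≠ chevF4.neg r) :
    (gen s u)⁻¹ * (gen r t)⁻¹ * gen s u * gen r t =
      ((chevF4.commWord K r s t u).map fun p => gen p.1 p.2).prod := by
  have h := chk_all r hr s hs hne hneg
  rw [chk, beq_iff_eq] at h
  have h1 := ev_eq_of_nf _ t u laced_E6 h
  rw [lw4, rw4, ev_append, ev_append, ev_append, ev_winv, ev_winv, ev_lw, ev_lw, ev_flatMap] at h1
  simp only [Int.cast_one, one_mul, pow_zero, pow_one, mul_one] at h1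
  rw [h1, ChevalleyDatum.commWord, List.map_map]
  congr 1
  apply List.map_congr_left
  intro c _
  rw [ev_lw]
  show _ = gen c.1 ((c.2.1 : K) * (-t) ^ c.2.2.1 * u ^ c.2.2.2)
  congr 1
  rw [neg_pow t]
  push_cast
  ring

/-- the part in the direction `B r` of the image of `n_r(t)` -/
def nB (r : ℕ) (t : K) : chevE6.SteinbergGroup K :=
  chevE6.stGen K (B r) t * chevE6.stGen K (B (chevF4.neg r)) (-t⁻¹) * chevE6.stGen K (B r) t

theorem gen_n {r : ℕ} (hr : r < 48) (t : K) :
    gen r t * (gen (chevF4.neg r) (-t⁻¹) * gen r t) = stn chevE6 (A r) ((S r : K) * t) * nB r t := by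
  have h := tabs hr
  have e : (S (chevF4.neg r) : K) * -t⁻¹ = -((S r : K) * t)⁻¹ := by
    rw [h.negS]
    rcases h.sgn with h1 | h1 <;> rw [h1]
    · simp
    · simp
  rw [gen, gen, stn_eq, nB, e, h.negA]
  have c1 := commute_of_orthB h.o2 (-((S r : K) * t)⁻¹) t
  have c2 := commute_of_orthB h.o1 ((S r : K) * t) t
  have c3 := commute_of_orthB h.o3 ((S r : K) * t) (-t⁻¹)
  rw [h.negA] at c1
  generalize chevE6.stGen K (A r) ((S r : K) * t) = a at c2 c3 ⊢
  generalize chevE6.stGen K (chevE6.neg (A r)) (-((S r : K) * t)⁻¹) = a' at c1 ⊢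
  generalize chevE6.stGen K (B r) t = b at c1 c2 ⊢
  generalize chevE6.stGen K (B (chevF4.neg r)) (-t⁻¹) = b' at c3 ⊢
  calc a * b * (a' * b' * (a * b)) = a * (b * a') * (b' * a) * b := by group
    _ = a * (a' * b) * (a * b') * b := by rw [c1.eq, c3.eq]
    _ = a * a' * (b * a) * b' * b := by group
    _ = a * a' * (a * b) * b' * b := by rw [c2.eq]
    _ = a * a' * a * (b * b' * b) := by group

/-- `h_a(S t)` with a sign does not depend on the sign -/
theorem stn_sgn {a : ℕ} (ha : a < 72) {ε : K} (hε : ε = 1 ∨ ε = -1) {t : K} (ht : t ≠ 0) :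
    stn chevE6 a (ε * t) * stn chevE6 a (ε * -1) = sth chevE6 a t := by
  rcases hε with rfl | rfl
  · rw [one_mul, one_mul, sth_eq, stn_neg]
  · have h1 : sth chevE6 a (-t) * (sth chevE6 a (-1))⁻¹ = sth chevE6 a t := by
      have h2 := sth_mul chevE6 (K := K) (r := a) ha ht (neg_ne_zero.2 one_ne_zero)
      rw [mul_neg_one] at h2
      rw [← h2, mul_inv_cancel_right]
    rw [← h1, sth_eq, sth_eq, neg_one_mul, neg_one_mul, neg_neg, stn_neg chevE6 a 1]
    group

/-- the part in the direction `B r` of the image of `h_r(t)` -/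
def hB (r : ℕ) (t : K) : chevE6.SteinbergGroup K := nB r t * nB r (-1)

theorem nB_of_lt {r : ℕ} (hr : r < 48) (hb : B r < 72) (t : K) : nB r t = stn chevE6 (B r) t := by
  rw [nB, (tabs hr).negB hb, stn_eq]

theorem nB_of_not_lt {r : ℕ} (hr : r < 48) (hb : ¬ B r < 72) (t : K) : nB r t = 1 := by
  rw [nB, stGen_of_not_lt chevE6 (r := B r) hb, stGen_of_not_lt chevE6 (r := B (chevF4.neg r)) ((tabs hr).negB' hb),
    one_mul, one_mul]

theorem hB_mul {r : ℕ} (hr : r < 48) {t₁ t₂ : K} (h₁ : t₁ ≠ 0) (h₂ : t₂ ≠ 0) :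
    hB r t₁ * hB r t₂ = hB r (t₁ * t₂) := by
  by_cases hb : B r < 72
  · have h1 : ∀ t : K, hB r t = sth chevE6 (B r) t := by
      intro t
      rw [hB, nB_of_lt hr hb, nB_of_lt hr hb, sth_eq, stn_neg]
    rw [h1, h1, h1, sth_mul chevE6 (r := B r) hb h₁ h₂]
  · rw [hB, hB, hB]
    simp only [nB_of_not_lt hr hb, mul_one]

theorem stn_comm_nB {r : ℕ} (hr : r < 48) (t u : K) : Commute (stn chevE6 (A r) t) (nB r u) := by
  have h := tabs hr
  rw [stn_eq, nB, ← h.negA]
  refine Commute.mul_left (Commute.mul_left ?_ ?_) ?_ <;> refine Commute.mul_right (Commute.mul_right ?_ ?_) ?_ <;>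
    apply commute_of_orthB
  exacts [h.o1, h.o3, h.o1, h.o2, h.o4, h.o2, h.o1, h.o3, h.o1]

/-- the image of `h_r(t)` -/
theorem gen_h {r : ℕ} (hr : r < 48) {t : K} (ht : t ≠ 0) :
    ((chevF4.hWord r t).map fun p => gen p.1 p.2).prod = sth chevE6 (A r) t * hB r t := by
  have h := tabs hr
  have hS : (S r : K) = 1 ∨ (S r : K) = -1 := by
    rcases h.sgn with h1 | h1 <;> rw [h1]
    · left; exact Int.cast_one
    · right; push_cast; rfl
  have h1 : ((chevF4.hWord r t).map fun p => gen p.1 p.2).prod =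
      gen r t * (gen (chevF4.neg r) (-t⁻¹) * gen r t) *
        (gen r (-1) * (gen (chevF4.neg r) (-(-1)⁻¹) * gen r (-1))) := by
    show gen r t * (gen (chevF4.neg r) (-t⁻¹) * (gen r t * (gen r (-1) * (gen (chevF4.neg r) (-(-1)⁻¹) *
      (gen r (-1) * 1))))) = _
    simp only [mul_one, mul_assoc]
  rw [h1, gen_n hr, gen_n hr, ← stn_sgn h.lt hS ht, hB]
  exact (stn_comm_nB hr _ _).symm.mul_mul_mul_comm _ _

theorem sth_comm_hB {r : ℕ} (hr : r < 48) (t u : K) : Commute (sth chevE6 (A r) t) (hB r u) := by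
  rw [sth_eq, hB]
  exact Commute.mul_left (Commute.mul_right (stn_comm_nB hr _ _) (stn_comm_nB hr _ _))
    (Commute.inv_left (Commute.mul_right (stn_comm_nB hr _ _) (stn_comm_nB hr _ _)))

theorem gen_h_mul (r : ℕ) (t₁ t₂ : K) (hr : r < 48) (h₁ : t₁ ≠ 0) (h₂ : t₂ ≠ 0) :
    ((chevF4.hWord r t₁).map fun p => gen p.1 p.2).prod * ((chevF4.hWord r t₂).map fun p => gen p.1 p.2).prod =
      ((chevF4.hWord r (t₁ * t₂)).map fun p => gen p.1 p.2).prod := by
  rw [gen_h hr h₁, gen_h hr h₂, gen_h hr (mul_ne_zero h₁ h₂), ← hB_mul hr h₁ h₂,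
    ← sth_mul chevE6 (r := A r) (tabs hr).lt h₁ h₂]
  exact (sth_comm_hB hr _ _).symm.mul_mul_mul_comm _ _

variable (K)

/-- **the homomorphism of presented groups** -/
def psi : chevF4.SteinbergGroup K →* chevE6.SteinbergGroup K :=
  lift chevF4 gen gen_of_not_lt gen_mul (fun r s t u hr hs h1 h2 => gen_comm r s t u hr hs h1 h2)
    (fun r t₁ t₂ hr h₁ h₂ => gen_h_mul r t₁ t₂ hr h₁ h₂)

theorem psi_stGen (r : ℕ) (t : K) : psi K (chevF4.stGen K r t) =
    chevE6.stGen K (A r) ((S r : K) * t) * chevE6.stGen K (B r) t := lift_stGen _ _ _ _ _ _ _ _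

end Cfsg.Agent.H129.FE
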