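import Cfsg.Agent.H129.FE.Word
import Cfsg.Prelude.Def_ChevF4
import Cfsg.Prelude.Def_ChevE6

/-!
# Tables of the embedding of `F₄` in `E₆` (helper129)

A long root `r` of `F₄` is a root `A r` of `E₆` fixed by the symmetry, a short root is a pair `{A r, B r}`; `S r = ±1` is
the sign of the first parameter: `x_r(t) ↦ x_{A r}(S r t) x_{B r}(t)`.
-/

set_option autoImplicit false

namespace Cfsg.Agent.H129.FE

open Cfsg.Lie Cfsg.Agent.ChevalleyStructure.StBasic

def tA : Array ℕ := #[0, 1, 2, 5, 6, 8, 11, 16, 17, 19, 26, 22, 30, 33, 35, 18, 20, 27, 23, 31, 34, 24, 32, 25, 46, 39,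
  47, 37, 40, 48, 44, 51, 53, 36, 38, 41, 49, 45, 52, 54, 55, 60, 63, 65, 66, 69, 70, 71]

def tB : Array ℕ := #[1000, 1000, 1000, 3, 1000, 1000, 1000, 4, 7, 9, 12, 10, 13, 14, 15, 1000, 1000, 1000, 21, 28, 29,
  1000, 1000, 1000, 1000, 1000, 1000, 42, 43, 50, 1000, 1000, 1000, 56, 57, 58, 61, 59, 62, 64, 67, 1000, 1000, 1000,
  68, 1000, 1000, 1000]

def tS : Array ℤ := #[1, 1, 1, 1, 1, 1, 1, -1, -1, -1, -1, -1, 1, -1, 1, 1, 1, 1, 1, -1, 1, -1, 1, 1, 1, 1, -1, 1, -1,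
  1, 1, 1, 1, 1, -1, 1, -1, -1, -1, -1, -1, 1, 1, 1, 1, 1, 1, 1]

/-- the first root (out of range: 1000) -/
def A (r : ℕ) : ℕ := tA.getD r 1000

/-- the second root (1000, out of range, for the long roots) -/
def B (r : ℕ) : ℕ := tB.getD r 1000

/-- the sign -/
def S (r : ℕ) : ℤ := tS.getD r 1

/-- the letters of `x_r(c tⁱ uʲ)` -/
def lw (r : ℕ) (c : ℤ) (i j : ℕ) : List Letter :=
  (A r, S r * c, i, j) :: (if B r < 72 then [(B r, c, i, j)] else [])

/-- the right hand side of the commutator formula -/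
def rw4 (r s : ℕ) : List Letter :=
  (chevF4.commTerms r s).flatMap fun c => lw c.1 (c.2.1 * (-1) ^ c.2.2.1) c.2.2.1 c.2.2.2

/-- the left hand side -/
def lw4 (r s : ℕ) : List Letter := winv (lw s 1 0 1) ++ winv (lw r 1 1 0) ++ lw s 1 0 1 ++ lw r 1 1 0

/-- the ordering used for the pair `(r, s)` -/
def ordL (r s : ℕ) : List ℕ :=
  [A r, B r, A s, B s] ++ (chevF4.commTerms r s).flatMap fun c => [A c.1, B c.1]

/-- the position in a list -/
def posL : List ℕ → ℕ → ℕ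
  | [], _ => 0
  | a :: l, x => if a = x then 0 else posL l x + 1

/-- the check for the pair `(r, s)` -/
def chk (r s : ℕ) : Bool :=
  nf chevE6 (posL (ordL r s)) 20 (lw4 r s) == nf chevE6 (posL (ordL r s)) 20 (rw4 r s)

/-- the check of `Laced` -/
def lacedB (D : ChevalleyDatum) (r s : ℕ) : Bool := D.commTerms r s == (ct D r s).map fun q => (q.1, q.2, 1, 1)

theorem lacedB_E6_sp0 : ∀ r < 24, ∀ s < 72, lacedB chevE6 r s = true := by decide +kernel
theorem lacedB_E6_sp1 : ∀ r < 24, ∀ s < 72, lacedB chevE6 (r + 24) s = true := by decide +kernel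
theorem lacedB_E6_sp2 : ∀ r < 24, ∀ s < 72, lacedB chevE6 (r + 48) s = true := by decide +kernel

theorem lacedB_E6 : ∀ r < 72, ∀ s < 72, lacedB chevE6 r s = true := by
  intro r hr
  rcases Nat.lt_or_ge r 24 with h | h
  · exact lacedB_E6_sp0 r h
  rcases Nat.lt_or_ge r 48 with h1 | h1
  · obtain ⟨q, rfl⟩ := Nat.exists_eq_add_of_le' h
    exact lacedB_E6_sp1 q (by omega)
  · obtain ⟨q, rfl⟩ := Nat.exists_eq_add_of_le' h1
    exact lacedB_E6_sp2 q (by omega)

theorem laced_E6 : Laced chevE6 := fun r hr s hs _ _ => by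
  have h := lacedB_E6 r hr s hs
  rwa [lacedB, beq_iff_eq] at h

theorem chk_all_sp0 : ∀ r < 12, ∀ s < 48, s ≠ r → s ≠ chevF4.neg r → chk r s = true := by decide +kernel
theorem chk_all_sp1 : ∀ r < 12, ∀ s < 48, s ≠ r + 12 → s ≠ chevF4.neg (r + 12) → chk (r + 12) s = true := by
  decide +kernel
theorem chk_all_sp2 : ∀ r < 12, ∀ s < 48, s ≠ r + 24 → s ≠ chevF4.neg (r + 24) → chk (r + 24) s = true := by
  decide +kernel
theorem chk_all_sp3 : ∀ r < 12, ∀ s < 48, s ≠ r + 36 → s ≠ chevF4.neg (r + 36) → chk (r + 36) s = true := by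
  decide +kernel

theorem chk_all : ∀ r < 48, ∀ s < 48, s ≠ r → s ≠ chevF4.neg r → chk r s = true := by
  intro r hr
  rcases Nat.lt_or_ge r 12 with h | h
  · exact chk_all_sp0 r h
  rcases Nat.lt_or_ge r 24 with h1 | h1
  · obtain ⟨q, rfl⟩ := Nat.exists_eq_add_of_le' h
    exact chk_all_sp1 q (by omega)
  rcases Nat.lt_or_ge r 36 with h2 | h2
  · obtain ⟨q, rfl⟩ := Nat.exists_eq_add_of_le' h1
    exact chk_all_sp2 q (by omega)
  · obtain ⟨q, rfl⟩ := Nat.exists_eq_add_of_le' h2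
    exact chk_all_sp3 q (by omega)

end Cfsg.Agent.H129.FE
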