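import Cfsg.Agent.ChevalleyStructure.StBasic

/-!
# Collecting words in root elements with monomial parameters (helper129)

For a datum whose commutator formula has at most one factor (all roots of the same length), a procedure `nf` that sorts
words of letters `x_r(c tⁱ uʲ)`, proved to preserve the value in the presented group.
-/

set_option autoImplicit false

namespace Cfsg.Agent.H129.FE

open Cfsg.Lie Cfsg.Agent.ChevalleyStructure.StBasic

/-- `(r, c, i, j)` stands for `x_r(c tⁱ uʲ)` -/
abbrev Letter := ℕ × ℤ × ℕ × ℕ

section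

variable (D : ChevalleyDatum)

/-- the term of the commutator formula -/
def ct (r s : ℕ) : List (ℕ × ℤ) := D.chainEntry r s

/-- the commutator formula has at most one factor -/
def Laced : Prop := ∀ r < D.nroots, ∀ s < D.nroots, s ≠ r → s ≠ D.neg r →
  D.commTerms r s = (ct D r s).map fun q => (q.1, q.2, 1, 1)

variable (pos : ℕ → ℕ)

/-- the ordering of the letters -/
def before (l m : Letter) : Bool :=
  pos l.1 < pos m.1 || (pos l.1 == pos m.1 && (l.2.2.1 < m.2.2.1 || (l.2.2.1 == m.2.2.1 && l.2.2.2 < m.2.2.2)))

/-- multiplication of a sorted word by a letter on the left -/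
def ins : ℕ → Letter → List Letter → List Letter
  | _, l, [] => if l.2.1 = 0 then [] else [l]
  | 0, l, w => l :: w
  | n + 1, l, m :: w =>
    if l.2.1 = 0 then m :: w
    else if l.1 = m.1 then
      (if l.2.2 = m.2.2 then (if l.2.1 + m.2.1 = 0 then w else (l.1, l.2.1 + m.2.1, l.2.2) :: w)
       else if before pos l m then l :: m :: w
       else m :: ins n l w)
    else if before pos l m then l :: m :: w
    else if l.1 < D.nroots ∧ m.1 < D.nroots ∧ l.1 ≠ D.neg m.1 then
      match ct D m.1 l.1 with
      | [] => m :: ins n l w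
      | [q] => m :: ins n l (ins n (q.1, -(q.2 * m.2.1 * l.2.1), m.2.2.1 + l.2.2.1, m.2.2.2 + l.2.2.2) w)
      | _ => l :: m :: w
    else l :: m :: w

/-- the sorted word -/
def nf (n : ℕ) : List Letter → List Letter
  | [] => []
  | l :: w => ins D pos n l (nf n w)

/-- the inverse of a word -/
def winv (w : List Letter) : List Letter := (w.map fun l => ((l.1, -l.2.1, l.2.2) : Letter)).reverse

variable {K : Type*} [Field K] (t u : K)

/-- the value of a letter -/
def evL (l : Letter) : D.SteinbergGroup K := D.stGen K l.1 ((l.2.1 : K) * t ^ l.2.2.1 * u ^ l.2.2.2)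

/-- the value of a word -/
def ev (w : List Letter) : D.SteinbergGroup K := (w.map (evL D t u)).prod

theorem ev_nil : ev D t u [] = 1 := rfl

theorem ev_cons (l : Letter) (w : List Letter) : ev D t u (l :: w) = evL D t u l * ev D t u w := rfl

theorem ev_append (v w : List Letter) : ev D t u (v ++ w) = ev D t u v * ev D t u w := by
  rw [ev, List.map_append, List.prod_append]
  rfl

theorem evL_zero {l : Letter} (h : l.2.1 = 0) : evL D t u l = 1 := by
  rw [evL, h, Int.cast_zero, zero_mul, zero_mul, stGen_zero]

theorem evL_neg (l : Letter) : evL D t u (l.1, -l.2.1, l.2.2) = (evL D t u l)⁻¹ := by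
  rw [evL, evL, ← stGen_neg]
  congr 1
  push_cast
  ring

theorem ev_winv (w : List Letter) : ev D t u (winv w) = (ev D t u w)⁻¹ := by
  induction w with
  | nil => rw [ev_nil, inv_one]; rfl
  | cons l w ih =>
    have h : winv (l :: w) = winv w ++ [(l.1, -l.2.1, l.2.2)] := by
      simp [winv]
    rw [h, ev_append, ih, ev_cons, ev_nil, mul_one, evL_neg, ev_cons, mul_inv_rev]

variable {D}

theorem swap_nil (hD : Laced D) {l m : Letter} (hl : l.1 < D.nroots) (hm : m.1 < D.nroots) (hne : l.1 ≠ m.1)
    (hneg : l.1 ≠ D.neg m.1) (h : ct D m.1 l.1 = []) :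
    evL D t u l * evL D t u m = evL D t u m * evL D t u l := by
  rw [evL, evL, stGen_mul_stGen D hm hl hne hneg, ChevalleyDatum.commWord, hD _ hm _ hl hne hneg, h, List.map_nil,
    List.map_nil, wd_nil, mul_one]

theorem swap_one (hD : Laced D) {l m : Letter} (hl : l.1 < D.nroots) (hm : m.1 < D.nroots) (hne : l.1 ≠ m.1)
    (hneg : l.1 ≠ D.neg m.1) {q : ℕ × ℤ} (h : ct D m.1 l.1 = [q]) :
    evL D t u l * evL D t u m = evL D t u m * (evL D t u l *
      evL D t u (q.1, -(q.2 * m.2.1 * l.2.1), m.2.2.1 + l.2.2.1, m.2.2.2 + l.2.2.2)) := by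
  rw [evL, evL, stGen_mul_stGen D hm hl hne hneg, ChevalleyDatum.commWord, hD _ hm _ hl hne hneg, h, List.map_cons,
    List.map_nil, List.map_cons, List.map_nil, wd_singleton, mul_assoc, evL]
  congr 3
  push_cast
  ring

theorem same_root {l m : Letter} (h : l.1 = m.1) :
    evL D t u l * evL D t u m = evL D t u m * evL D t u l := by
  rw [evL, evL, h, stGen_mul, stGen_mul, add_comm]

theorem ev_ins (hD : Laced D) (n : ℕ) : ∀ (l : Letter) (w : List Letter),
    ev D t u (ins D pos n l w) = evL D t u l * ev D t u w := by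
  induction n with
  | zero =>
    intro l w
    cases w with
    | nil =>
      rw [ins]
      split_ifs with h
      · rw [evL_zero D t u h, one_mul]
      · rfl
    | cons m w => rfl
  | succ n ih =>
    intro l w
    cases w with
    | nil =>
      rw [ins]
      split_ifs with h
      · rw [evL_zero D t u h, one_mul]
      · rfl
    | cons m w =>
      rw [ins]
      split_ifs with h1 h2 h3 h4 h5 h6 h7
      · rw [evL_zero D t u h1, one_mul]
      · rw [ev_cons, ← mul_assoc, evL, evL, ← h2, ← h3, stGen_mul, ← add_mul, ← add_mul, ← Int.cast_add, h4,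
          Int.cast_zero, zero_mul, zero_mul, stGen_zero, one_mul]
      · rw [ev_cons, ev_cons, ← mul_assoc, evL, evL, evL, ← h2, ← h3, stGen_mul, ← add_mul, ← add_mul, ← Int.cast_add]
      · rfl
      · rw [ev_cons, ih, ev_cons, ← mul_assoc, ← mul_assoc, same_root t u h2]
      · rfl
      · obtain ⟨h8, h9, h10⟩ := h7
        split
        · rename_i heq
          rw [ev_cons, ih, ev_cons, ← mul_assoc, ← mul_assoc, swap_nil t u hD h8 h9 h2 h10 heq]
        · rename_i q heq
          rw [ev_cons, ih, ih, ev_cons, ← mul_assoc (evL D t u l) (evL D t u m) (ev D t u w),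
            swap_one t u hD h8 h9 h2 h10 heq]
          simp only [mul_assoc]
        · rfl
      · rfl

theorem ev_nf (hD : Laced D) (n : ℕ) (w : List Letter) : ev D t u (nf D pos n w) = ev D t u w := by
  induction w with
  | nil => rfl
  | cons l w ih => rw [nf, ev_ins pos t u hD, ih, ev_cons]

theorem ev_eq_of_nf (hD : Laced D) {n : ℕ} {v w : List Letter} (h : nf D pos n v = nf D pos n w) :
    ev D t u v = ev D t u w := by
  rw [← ev_nf pos t u hD n v, h, ev_nf pos t u hD]

end

end Cfsg.Agent.H129.FE
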